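import Mathlib
import Cfsg.Agent.Coprime.Sylow
import Cfsg.Agent.Coprime.InvariantFactors

/-!
Fixed points in the commutators `[h, A]` of single elements under a coprime action.
-/

set_option autoImplicit false
set_option linter.style.haveILetI false

namespace CfsgLib.CommFixed

open Subgroup CfsgLib.Coprime

universe u v

variable {H : Type u} [Group H] {A : Type v} [Group A] [MulDistribMulAction A H]

variable (A) in
/-- The subgroup `[h, A]`. -/
def cm (h : H) : Subgroup H := closure {x : H | ∃ a : A, x = h⁻¹ * a • h}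

variable (A) in
/-- The subgroup `[V, A]`. -/
def ds (V : Subgroup H) : Subgroup H := closure {x : H | ∃ (a : A) (v : H), v ∈ V ∧ x = v⁻¹ * a • v}

variable (H A) in
/-- The subgroup generated by the fixed points of the `[h, A]`. -/
def fixGen : Subgroup H := ⨆ h : H, cm A h ⊓ FixedPoints.subgroup A H

theorem mem_cm (h : H) (a : A) : h⁻¹ * a • h ∈ cm A h := subset_closure ⟨a, rfl⟩

theorem mem_ds {V : Subgroup H} (a : A) {v : H} (hv : v ∈ V) : v⁻¹ * a • v ∈ ds A V :=
  subset_closure ⟨a, v, hv, rfl⟩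

theorem ds_le {V : Subgroup H} (hV : IsInvariant A V) : ds A V ≤ V := by
  rw [ds, closure_le]
  rintro _ ⟨a, v, hv, rfl⟩
  exact V.mul_mem (V.inv_mem hv) (hV a v hv)

theorem ds_mono {V V' : Subgroup H} (h : V ≤ V') : ds A V ≤ ds A V' := by
  refine closure_mono ?_
  rintro _ ⟨a, v, hv, rfl⟩
  exact ⟨a, v, h hv, rfl⟩

theorem isInvariant_closure {S : Set H} (h : ∀ a : A, ∀ x ∈ S, a • x ∈ closure S) :
    IsInvariant A (closure S) := by
  intro a n hn
  induction hn using Subgroup.closure_induction with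
  | mem x hx => exact h a x hx
  | one => rw [smul_one]; exact one_mem _
  | mul x y _ _ hx hy => rw [smul_mul']; exact mul_mem hx hy
  | inv x _ hx => rw [smul_inv']; exact inv_mem hx

theorem isInvariant_cm (h : H) : IsInvariant A (cm A h) := by
  refine isInvariant_closure ?_
  rintro a _ ⟨b, rfl⟩
  have e : a • (h⁻¹ * b • h) = (h⁻¹ * a • h)⁻¹ * (h⁻¹ * (a * b) • h) := by
    rw [smul_mul', smul_inv', mul_smul]; group
  rw [e]
  exact mul_mem (inv_mem (mem_cm h a)) (mem_cm h _)

theorem isInvariant_ds {V : Subgroup H} (hV : IsInvariant A V) : IsInvariant A (ds A V) := by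
  refine isInvariant_closure ?_
  rintro a _ ⟨b, v, hv, rfl⟩
  have e : a • (v⁻¹ * b • v) = (v⁻¹ * a • v)⁻¹ * (v⁻¹ * (a * b) • v) := by
    rw [smul_mul', smul_inv', mul_smul]; group
  rw [e]
  exact mul_mem (inv_mem (mem_ds a hv)) (mem_ds _ hv)

theorem conj_mem_ds {V : Subgroup H} {u : H} (hu : u ∈ V) {x : H} (hx : x ∈ ds A V) :
    u⁻¹ * x * u ∈ ds A V := by
  induction hx using Subgroup.closure_induction with
  | mem x hx =>
    obtain ⟨a, v, hv, rfl⟩ := hx
    have e : u⁻¹ * (v⁻¹ * a • v) * u = ((v * u)⁻¹ * a • (v * u)) * (u⁻¹ * a • u)⁻¹ := by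
      rw [smul_mul']; group
    rw [e]
    exact mul_mem (mem_ds a (V.mul_mem hv hu)) (inv_mem (mem_ds a hu))
  | one => simp
  | mul x y _ _ hx hy =>
    rw [show u⁻¹ * (x * y) * u = (u⁻¹ * x * u) * (u⁻¹ * y * u) by group]
    exact mul_mem hx hy
  | inv x _ hx =>
    rw [show u⁻¹ * x⁻¹ * u = (u⁻¹ * x * u)⁻¹ by group]
    exact inv_mem hx

theorem ds_top : ds A (⊤ : Subgroup H) = actCommutator H A := by
  simp only [ds, actCommutator, mem_top, true_and]

theorem fixGen_le : fixGen H A ≤ FixedPoints.subgroup A H := iSup_le fun _ => inf_le_right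

theorem mem_fixGen {h x : H} (hx : x ∈ cm A h) (hfix : ∀ a : A, a • x = x) : x ∈ fixGen H A :=
  mem_iSup_of_mem h ⟨hx, hfix⟩

theorem conj_mem_fixGen {c : H} (hc : ∀ a : A, a • c = c) {x : H} (hx : x ∈ fixGen H A) :
    c * x * c⁻¹ ∈ fixGen H A := by
  have h : fixGen H A ≤ (fixGen H A).comap (MulAut.conj c).toMonoidHom := by
    refine iSup_le fun h y hy => ?_
    have h1 : cm A h ≤ (cm A (h * c⁻¹)).comap (MulAut.conj c).toMonoidHom := by
      rw [cm, closure_le]
      rintro _ ⟨a, rfl⟩
      refine subset_closure ⟨a, ?_⟩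
      show c * (h⁻¹ * a • h) * c⁻¹ = _
      rw [smul_mul', smul_inv', hc a]
      group
    refine mem_fixGen (h1 hy.1) fun a => ?_
    show a • (c * y * c⁻¹) = c * y * c⁻¹
    rw [smul_mul', smul_mul', smul_inv', hc a, hy.2 a]
  exact h hx

/-- An equivariant map carries generators to generators. -/
theorem map_fixGen_le {H' : Type*} [Group H'] [MulDistribMulAction A H'] (f : H' →* H)
    (hf : ∀ (a : A) x, f (a • x) = a • f x) : (fixGen H' A).map f ≤ fixGen H A := by
  rw [map_le_iff_le_comap]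
  refine iSup_le fun h y hy => ?_
  have h1 : cm A h ≤ (cm A (f h)).comap f := by
    rw [cm, closure_le]
    rintro _ ⟨a, rfl⟩
    exact subset_closure ⟨a, by rw [map_mul, map_inv, hf]⟩
  exact mem_fixGen (h1 hy.1) fun a => by rw [← hf, hy.2 a]

/-- The action on an invariant subgroup. -/
@[reducible] def subAction (V : Subgroup H) (hV : IsInvariant A V) : MulDistribMulAction A V where
  smul a x := ⟨a • (x : H), hV a x x.2⟩
  one_smul x := Subtype.ext (one_smul A (x : H))
  mul_smul a b x := Subtype.ext (mul_smul a b (x : H))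
  smul_mul a x y := Subtype.ext (smul_mul' a (x : H) (y : H))
  smul_one a := Subtype.ext (smul_one a)

theorem quot_inv {N : Subgroup H} (hN : IsInvariant A N) :
    ∀ a, ∀ x ∈ N, (MulDistribMulAction.toMulAut A H) a x ∈ N := fun a x hx => hN a x hx

/-- The action on an invariant quotient. -/
@[reducible] def quotAction (N : Subgroup H) [N.Normal] (hN : IsInvariant A N) :
    MulDistribMulAction A (H ⧸ N) :=
  MulDistribMulAction.compHom (H ⧸ N) (quotientAut (MulDistribMulAction.toMulAut A H) N (quot_inv hN))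

section Finite

variable [Finite H] [Finite A] [Group.IsSolvable A]

/-- `V = C_V(A) [V, A]`. -/
theorem exists_fixed_mul {V : Subgroup H} (hcop : (Nat.card A).Coprime (Nat.card H))
    (hV : IsInvariant A V) {v : H} (hv : v ∈ V) :
    ∃ c ∈ V, (∀ a : A, a • c = c) ∧ c⁻¹ * v ∈ ds A V := by
  obtain ⟨c, hc, hc'⟩ := exists_fixed_mem_coset_of_isSolvable (ds A V) (isInvariant_ds hV)
    (hcop.coprime_dvd_right (card_subgroup_dvd_card _)) v (fun a => mem_ds a hv)
  refine ⟨c, ?_, hc, by simpa using inv_mem hc'⟩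
  simpa using V.mul_mem hv (ds_le hV hc')

/-- An abelian invariant subgroup has no fixed points in `[V, A]`. -/
theorem eq_one_of_mem_ds {V : Subgroup H} (hcop : (Nat.card A).Coprime (Nat.card H))
    (hV : IsInvariant A V) (hab : ∀ x ∈ V, ∀ y ∈ V, x * y = y * x) {z : H} (hz : z ∈ ds A V)
    (hfix : ∀ a : A, a • z = z) : z = 1 := by
  letI : CommGroup V :=
    { (inferInstance : Group V) with mul_comm := fun x y => Subtype.ext (hab x x.2 y y.2) }
  letI := subAction V hV
  have h1 : ds A V ≤ (actCommutator V A).map V.subtype := by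
    rw [ds, closure_le]
    rintro _ ⟨a, v, hv, rfl⟩
    exact ⟨(⟨v, hv⟩ : V)⁻¹ * a • (⟨v, hv⟩ : V), inv_mul_smul_mem_actCommutator _ _, rfl⟩
  obtain ⟨w, hw, rfl⟩ := h1 hz
  have h2 := eq_one_of_mem_actCommutator_of_fixed (G := V)
    (hcop.coprime_dvd_right (card_subgroup_dvd_card _)) hw fun a => Subtype.ext (hfix a)
  rw [h2]; rfl

/-- If `H = [H, A]`, fixed points lie in the derived subgroup. -/
theorem fixed_mem_commutator (hcop : (Nat.card A).Coprime (Nat.card H))
    (hD : actCommutator H A = ⊤) {c : H} (hc : ∀ a : A, a • c = c) : c ∈ commutator H := by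
  have hK : IsInvariant A (commutator H) := IsInvariant.of_characteristic _
  letI : CommGroup (H ⧸ commutator H) :=
    { (inferInstance : Group (H ⧸ commutator H)) with
      mul_comm := fun x y => by
        obtain ⟨x, rfl⟩ := QuotientGroup.mk_surjective x
        obtain ⟨y, rfl⟩ := QuotientGroup.mk_surjective y
        rw [← QuotientGroup.mk_mul, ← QuotientGroup.mk_mul, QuotientGroup.eq]
        rw [show (x * y)⁻¹ * (y * x) = y⁻¹ * x⁻¹ * (y⁻¹)⁻¹ * (x⁻¹)⁻¹ by group]
        exact commutator_mem_commutator (mem_top _) (mem_top _) }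
  letI := quotAction (commutator H) hK
  have h1 : actCommutator H A ≤
      (actCommutator (H ⧸ commutator H) A).comap (QuotientGroup.mk' _) := by
    rw [actCommutator_le_iff]
    intro a g
    exact inv_mul_smul_mem_actCommutator a (g : H ⧸ commutator H)
  have h2 := eq_one_of_mem_actCommutator_of_fixed (G := H ⧸ commutator H)
    (hcop.coprime_dvd_right (card_quotient_dvd_card _)) (h1 (hD ▸ mem_top c))
    fun a => by
      show ((a • c : H) : H ⧸ commutator H) = c
      rw [hc a]
  exact (QuotientGroup.eq_one_iff c).1 h2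

variable (H A) in
/-- The statement to be proved. -/
def Good : Prop :=
  ∀ c ∈ actCommutator H A, (∀ a : A, a • c = c) → c ∈ fixGen H A

/-- The statement inside an invariant subgroup. -/
theorem mem_fixGen_of_sub {V : Subgroup H} (hV : IsInvariant A V)
    (hgood : letI := subAction V hV; Good V A) {c : H} (hc : c ∈ ds A V) (hfix : ∀ a : A, a • c = c) :
    c ∈ fixGen H A := by
  letI := subAction V hV
  have h1 : ds A V ≤ (actCommutator V A).map V.subtype := by
    rw [ds, closure_le]
    rintro _ ⟨a, v, hv, rfl⟩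
    exact ⟨(⟨v, hv⟩ : V)⁻¹ * a • (⟨v, hv⟩ : V), inv_mul_smul_mem_actCommutator _ _, rfl⟩
  obtain ⟨w, hw, rfl⟩ := h1 hc
  exact map_fixGen_le V.subtype (fun a x => rfl)
    (mem_map_of_mem _ (hgood w hw fun a => Subtype.ext (hfix a)))

/-- Reduction modulo an invariant normal subgroup. -/
theorem exists_mul_of_quot (hcop : (Nat.card A).Coprime (Nat.card H))
    (hD : actCommutator H A = ⊤) {N : Subgroup H} [N.Normal] (hN : IsInvariant A N)
    (hgood : letI := quotAction N hN; Good (H ⧸ N) A) {c : H} (hc : ∀ a : A, a • c = c) :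
    ∃ w ∈ fixGen H A, w⁻¹ * c ∈ N ∧ ∀ a : A, a • (w⁻¹ * c) = w⁻¹ * c := by
  letI := quotAction N hN
  have htop : actCommutator H A ≤ (actCommutator (H ⧸ N) A).comap (QuotientGroup.mk' N) := by
    rw [actCommutator_le_iff]
    intro a g
    exact inv_mul_smul_mem_actCommutator a (g : H ⧸ N)
  have h1 := hgood _ (htop (hD ▸ mem_top c)) fun a => by
    show ((a • c : H) : H ⧸ N) = c
    rw [hc a]
  have h2 : fixGen (H ⧸ N) A ≤ (fixGen H A).map (QuotientGroup.mk' N) := by
    refine iSup_le fun h y hy => ?_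
    obtain ⟨h, rfl⟩ := QuotientGroup.mk_surjective h
    have h3 : cm A (h : H ⧸ N) ≤ (cm A h).map (QuotientGroup.mk' N) := by
      rw [cm, closure_le]
      rintro _ ⟨a, rfl⟩
      exact ⟨h⁻¹ * a • h, mem_cm h a, rfl⟩
    obtain ⟨k, hk, rfl⟩ := h3 hy.1
    obtain ⟨d, hd, hd'⟩ := exists_fixed_mem_coset_of_isSolvable (N ⊓ cm A h)
      (hN.inf (isInvariant_cm h)) (hcop.coprime_dvd_right (card_subgroup_dvd_card _)) k
      (fun a => ⟨QuotientGroup.eq.1 (hy.2 a : ((a • k : H) : H ⧸ N) = k).symm,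
        (cm A h).mul_mem ((cm A h).inv_mem hk) (isInvariant_cm h a k hk)⟩)
    refine ⟨d, mem_fixGen (h := h) (by simpa using (cm A h).mul_mem hk hd'.2) hd, (QuotientGroup.eq.2 hd'.1).symm⟩
  obtain ⟨w, hw, hwc⟩ := h2 h1
  refine ⟨w, hw, QuotientGroup.eq.1 hwc, fun a => ?_⟩
  rw [smul_mul', smul_inv', fixGen_le hw a, hc a]

theorem mem_of_quot (hcop : (Nat.card A).Coprime (Nat.card H))
    (hD : actCommutator H A = ⊤) {N : Subgroup H} [N.Normal] (hN : IsInvariant A N)
    (hgood : letI := quotAction N hN; Good (H ⧸ N) A)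
    (hNW : ∀ n ∈ N, (∀ a : A, a • n = n) → n ∈ fixGen H A) {c : H} (hc : ∀ a : A, a • c = c) :
    c ∈ fixGen H A := by
  obtain ⟨w, hw, h1, h2⟩ := exists_mul_of_quot hcop hD hN hgood hc
  simpa using mul_mem hw (hNW _ h1 h2)

end Finite

end CfsgLib.CommFixed
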