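import Cfsg.Agent.CommFixed.PGroup
import Mathlib.GroupTheory.Transfer

/-!
A central minimal invariant subgroup meets the generated fixed points.
-/

set_option autoImplicit false
set_option linter.style.haveILetI false

namespace CfsgLib.CommFixed

open Subgroup CfsgLib.Coprime

universe u v

variable {H : Type u} [Group H] [Finite H] {A : Type v} [Group A] [Finite A] [Group.IsSolvable A]
  [MulDistribMulAction A H]

theorem mem_of_central {q : ℕ} [hq : Fact q.Prime] (hnp : ¬ IsPGroup q H)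
    (hcop : (Nat.card A).Coprime (Nat.card H)) [Group.IsSolvable H]
    (hD : actCommutator H A = ⊤) (hb : Below H A) {N : Subgroup H} [N.Normal] (hN : IsInvariant A N)
    (hN1 : N ≠ ⊥) (hNq : IsPGroup q N) (hNc : N ≤ center H)
    (hmin : ∀ M : Subgroup H, M.Normal → IsInvariant A M → M ≤ N → M ≠ ⊥ → M = N)
    {c : H} (hc : ∀ a : A, a • c = c) : c ∈ fixGen H A := by
  classical
  set W := fixGen H A
  refine hb.quot hcop hD hN hN1 (fun n hn hnf => ?_) hc
  by_cases hn1 : n = 1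
  · rw [hn1]; exact one_mem _
  by_contra hnW
  have hcenN : ∀ M : Subgroup H, M ≤ N → M.Normal := fun M hM => ⟨fun x hx g => by
    rw [mem_center_iff.1 (hNc (hM hx)) g, mul_inv_cancel_right]; exact hx⟩
  -- `N` is fixed by `A` and every nontrivial subgroup of it is `N`
  have hfix : ∀ y ∈ N, ∀ a : A, a • y = y := by
    have h := hmin (N ⊓ FixedPoints.subgroup A H) (hcenN _ inf_le_left)
      (hN.inf (isInvariant_fixedPoints A)) inf_le_left fun h => hn1 (by
        have : n ∈ N ⊓ FixedPoints.subgroup A H := ⟨hn, hnf⟩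
        rwa [h, mem_bot] at this)
    intro y hy a
    rw [← h] at hy
    exact hy.2 a
  have hatom : ∀ M : Subgroup H, M ≤ N → M ≠ ⊥ → M = N := fun M hM h1 =>
    hmin M (hcenN M hM) (fun a x hx => by rwa [hfix x (hM hx) a]) hM h1
  have hWN : ∀ x ∈ W, x ∈ N → x = 1 := by
    intro x hx hxN
    by_contra hx1
    refine hnW ?_
    have h := hatom (W ⊓ N) inf_le_right fun h => hx1 (by
      have : x ∈ W ⊓ N := ⟨hx, hxN⟩
      rwa [h, mem_bot] at this)
    rw [← h] at hn
    exact hn.1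
  obtain ⟨Q, hQ⟩ := exists_invariant_sylow (A := A) (G := H) hcop q
  have hQne : (Q : Subgroup H) ≠ ⊤ := fun h => hnp (fun x => by
    obtain ⟨k, hk⟩ := Q.2 ⟨x, h ▸ mem_top x⟩
    exact ⟨k, by simpa using congrArg Subtype.val hk⟩)
  have hNQ : N ≤ (Q : Subgroup H) := by
    have h := Q.3 (hNq.to_sup_of_normal_left Q.2) le_sup_right
    rw [← h]
    exact le_sup_left
  -- every element of `C_Q(A)` is in `W N`
  have hcover : ∀ e : H, (∀ a : A, a • e = e) → ∃ w ∈ W, w⁻¹ * e ∈ N := by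
    intro e he
    letI := quotAction N hN
    obtain ⟨w, hw, h1, -⟩ := exists_mul_of_quot hcop hD hN (hb (H ⧸ N) (by
      rw [← index_eq_card]
      have h1 := N.card_mul_index
      have h2 : 1 < Nat.card N := by
        haveI := (nontrivial_iff_ne_bot N).2 hN1
        exact Finite.one_lt_card
      have h3 : 0 < N.index := Nat.pos_of_ne_zero N.index_ne_zero_of_finite
      nlinarith) (hcop.coprime_dvd_right (card_quotient_dvd_card _)) inferInstance) he
    exact ⟨w, hw, h1⟩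
  have hdsQ : ∀ x ∈ ds A (Q : Subgroup H), (∀ a : A, a • x = x) → x ∈ W := fun x hx hxf =>
    hb.sub hcop hQ hQne hx hxf
  let U0 : Subgroup H :=
    { carrier := {x | x ∈ (Q : Subgroup H) ∧ ∃ d ∈ ds A (Q : Subgroup H), x * d⁻¹ ∈ W}
      one_mem' := ⟨one_mem _, 1, one_mem _, by simp⟩
      mul_mem' := by
        rintro x y ⟨hx, d, hd, hxd⟩ ⟨hy, e, he, hye⟩
        have hw2 : y * e⁻¹ ∈ (Q : Subgroup H) := mul_mem hy (inv_mem (ds_le hQ he))
        refine ⟨mul_mem hx hy, ((y * e⁻¹)⁻¹ * d * (y * e⁻¹)) * e, mul_mem (conj_mem_ds hw2 hd) he, ?_⟩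
        rw [show x * y * (((y * e⁻¹)⁻¹ * d * (y * e⁻¹)) * e)⁻¹ = (x * d⁻¹) * (y * e⁻¹) by group]
        exact mul_mem hxd hye
      inv_mem' := by
        rintro x ⟨hx, d, hd, hxd⟩
        refine ⟨inv_mem hx, (x * d⁻¹) * d⁻¹ * (x * d⁻¹)⁻¹, ?_, ?_⟩
        · have := conj_mem_ds (A := A) (inv_mem (mul_mem hx (inv_mem (ds_le hQ hd)))) (inv_mem hd)
          simpa using this
        · rw [show x⁻¹ * ((x * d⁻¹) * d⁻¹ * (x * d⁻¹)⁻¹)⁻¹ = (x * d⁻¹)⁻¹ by group]
          exact inv_mem hxd }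
  -- `U0` is a complement to `N` in `Q`
  have hU0N : ∀ x ∈ U0, x ∈ N → x = 1 := by
    rintro x ⟨-, d, hd, hxd⟩ hxN
    have hdf : ∀ a : A, a • d = d := fun a => by
      have h1 := fixGen_le hxd a
      rw [smul_mul', smul_inv', hfix x hxN a] at h1
      exact inv_injective (mul_left_cancel h1)
    have := mul_mem hxd (hdsQ d hd hdf)
    exact hWN x (by simpa using this) hxN
  have hsplit : ∀ y : (Q : Subgroup H), ∃ x ∈ U0, ∃ m ∈ N, (y : H) = x * m := by
    intro y
    obtain ⟨e, he, hef, hd⟩ := exists_fixed_mul hcop hQ y.2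
    obtain ⟨w, hw, hwe⟩ := hcover e hef
    have hwQ : w ∈ (Q : Subgroup H) := by
      have := mul_mem he (inv_mem (hNQ hwe))
      simpa using this
    refine ⟨w * (e⁻¹ * y), ⟨mul_mem hwQ (ds_le hQ hd), _, hd, ?_⟩, w⁻¹ * e, hwe, ?_⟩
    · rw [mul_inv_cancel_right]; exact hw
    · rw [mul_assoc, mem_center_iff.1 (hNc hwe) (e⁻¹ * (y : H))]
      group
  let U : Subgroup (Q : Subgroup H) := U0.subgroupOf Q
  haveI : U.Normal := ⟨fun y hy g => by
    obtain ⟨x, hx, m, hm, e⟩ := hsplit g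
    rw [mem_subgroupOf] at hy ⊢
    rw [coe_mul, coe_mul, coe_inv, e, show x * m * (y : H) * (x * m)⁻¹ = x * (m * (y : H) * m⁻¹) * x⁻¹ by group,
      ← mem_center_iff.1 (hNc hm) (y : H), mul_inv_cancel_right]
    exact mul_mem (mul_mem hx hy) (inv_mem hx)⟩
  letI : CommGroup ((Q : Subgroup H) ⧸ U) :=
    { (inferInstance : Group ((Q : Subgroup H) ⧸ U)) with
      mul_comm := fun x y => by
        obtain ⟨x, rfl⟩ := QuotientGroup.mk_surjective x
        obtain ⟨y, rfl⟩ := QuotientGroup.mk_surjective y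
        obtain ⟨x0, hx0, m, hm, ex⟩ := hsplit x
        have hx1 : (x : (Q : Subgroup H) ⧸ U) = ((⟨m, hNQ hm⟩ : (Q : Subgroup H)) : (Q : Subgroup H) ⧸ U) := by
          rw [QuotientGroup.eq, mem_subgroupOf, coe_mul, coe_inv, ex,
            show (x0 * m)⁻¹ * m = m⁻¹ * x0⁻¹ * m by group,
            mem_center_iff.1 (inv_mem (hNc hm)) x0⁻¹ |>.symm, inv_mul_cancel_right]
          exact inv_mem hx0
        rw [hx1, ← QuotientGroup.mk_mul, ← QuotientGroup.mk_mul]
        congr 1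
        exact Subtype.ext (mem_center_iff.1 (hNc hm) (y : H)).symm }
  -- the transfer separates `n` from the derived subgroup
  let τ : H →* (Q : Subgroup H) ⧸ U := MonoidHom.transfer (QuotientGroup.mk' U)
  have hτn : τ n = ((⟨n, hNQ hn⟩ : (Q : Subgroup H)) : (Q : Subgroup H) ⧸ U) ^ (Q : Subgroup H).index := by
    rw [← QuotientGroup.mk_pow]
    refine (MonoidHom.transfer_eq_pow _ n fun k g hk => ?_).trans rfl
    rw [mul_assoc, ← mem_center_iff.1 (pow_mem (hNc hn) k) g, inv_mul_cancel_left]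
  have hn' : n ∈ commutator H := fixed_mem_commutator hcop hD hnf
  have hker : commutator H ≤ τ.ker := Abelianization.commutator_subset_ker τ
  have h1 : ((⟨n, hNQ hn⟩ : (Q : Subgroup H)) : (Q : Subgroup H) ⧸ U) ^ (Q : Subgroup H).index = 1 :=
    hτn ▸ hker hn'
  have h2 : IsPGroup q ((Q : Subgroup H) ⧸ U) := Q.2.to_quotient U
  obtain ⟨k, hk⟩ := h2 ((⟨n, hNQ hn⟩ : (Q : Subgroup H)) : (Q : Subgroup H) ⧸ U)
  have h3 := pow_gcd_eq_one.2 ⟨h1, hk⟩
  rw [(Nat.Coprime.pow_right k ((hq.out.coprime_iff_not_dvd.2 Q.not_dvd_index).symm) :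
    (Q : Subgroup H).index.Coprime (q ^ k)), pow_one, QuotientGroup.eq_one_iff, mem_subgroupOf] at h3
  exact hn1 (hU0N n h3 hn)

end CfsgLib.CommFixed
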