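import Cfsg.Agent.CommFixed.PGroup
import Cfsg.Agent.Solvable.Glauberman
import Cfsg.Agent.Coprime.FrobeniusPrimeDim

/-!
A non-central minimal invariant subgroup: its fixed points come from smaller invariant subgroups,
or a Frobenius group acts and the orders do not match.
-/

set_option autoImplicit false
set_option linter.style.haveILetI false
set_option linter.unusedSectionVars false

namespace CfsgLib.CommFixed

open Subgroup CfsgLib.Coprime
open scoped commutatorElement Pointwise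

universe u v

variable {H : Type u} [Group H] [Finite H] {A : Type v} [Group A] [Finite A] [Group.IsSolvable A]
  [MulDistribMulAction A H]

theorem le_normalizer_of_conj {M K : Subgroup H} (h : ∀ x ∈ K, ∀ m ∈ M, x * m * x⁻¹ ∈ M) :
    K ≤ normalizer (M : Set H) := fun x hx => mem_normalizer_iff.2 fun m =>
  ⟨h x hx m, fun hm => by simpa [mul_assoc] using h x⁻¹ (K.inv_mem hx) _ hm⟩

theorem normal_of_sup {M K L : Subgroup H} (h : K ⊔ L = ⊤) (h1 : ∀ x ∈ K, ∀ m ∈ M, x * m * x⁻¹ ∈ M)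
    (h2 : ∀ x ∈ L, ∀ m ∈ M, x * m * x⁻¹ ∈ M) : M.Normal :=
  normalizer_eq_top_iff.1 (top_unique (h.symm.le.trans
    (sup_le (le_normalizer_of_conj h1) (le_normalizer_of_conj h2))))

/-- A subgroup containing an invariant Sylow subgroup for every prime is the whole group. -/
theorem eq_top_of_invariant_sylow (hcop : (Nat.card A).Coprime (Nat.card H)) {M : Subgroup H}
    (h : ∀ (r : ℕ) [Fact r.Prime] (S : Sylow r H), IsInvariant A (S : Subgroup H) →
      (S : Subgroup H) ≤ M) : M = ⊤ := by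
  rw [← index_eq_one]
  by_contra hne
  haveI := Fact.mk (Nat.minFac_prime hne)
  obtain ⟨S, hS⟩ := exists_invariant_sylow (A := A) (G := H) hcop M.index.minFac
  exact S.not_dvd_index ((Nat.minFac_dvd _).trans (index_dvd_of_le (h _ S hS)))

theorem fixed_inf_le_of_family {N : Subgroup H} (hcop : (Nat.card A).Coprime (Nat.card H))
    (hN : IsInvariant A N) (hab : ∀ x ∈ N, ∀ y ∈ N, x * y = y * x) (F : Set (Subgroup H))
    (hle : ∀ M ∈ F, M ≤ N) (hinv : ∀ M ∈ F, IsInvariant A M)
    (hgood : ∀ M ∈ F, ∀ x ∈ M, (∀ a : A, a • x = x) → x ∈ fixGen H A) :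
    sSup F ≤ N ∧ ∀ x ∈ sSup F, (∀ a : A, a • x = x) → x ∈ fixGen H A := by
  classical
  let P : Subgroup H → Prop := fun M => M ≤ N ∧ IsInvariant A M ∧
    ∀ x ∈ M, (∀ a : A, a • x = x) → x ∈ fixGen H A
  haveI : Finite (Subgroup H) := Finite.of_injective (fun K : Subgroup H => (K : Set H)) SetLike.coe_injective
  obtain ⟨M0, hM0⟩ := Set.Finite.exists_maximal (Set.toFinite {M | P M})
    ⟨⊥, bot_le, IsInvariant.bot A, fun x hx _ => by rw [mem_bot.1 hx]; exact one_mem _⟩
  obtain ⟨hM0le, hM0inv, hM0good⟩ := hM0.1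
  suffices h : sSup F ≤ M0 from ⟨h.trans hM0le, fun x hx => hM0good x (h hx)⟩
  refine sSup_le fun M hM => ?_
  have hP : P (M0 ⊔ M) := by
    refine ⟨sup_le hM0le (hle M hM), hM0inv.sup (hinv M hM), fun x hx hfix => ?_⟩
    have hnorm : M ≤ normalizer (M0 : Set H) := le_normalizer_of_conj fun y hy m hm => by
      rw [hab y (hle M hM hy) m (hM0le hm), mul_inv_cancel_right]
      exact hm
    have hx' : x ∈ ((M0 ⊔ M : Subgroup H) : Set H) := hx
    rw [Subgroup.coe_mul_of_right_le_normalizer_left M0 M hnorm] at hx'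
    obtain ⟨m, hm, y, hy, rfl⟩ := hx'
    have hy' : ∀ a : A, y⁻¹ * a • y ∈ M0 ⊓ M := fun a => by
      refine ⟨?_, M.mul_mem (M.inv_mem hy) (hinv M hM a y hy)⟩
      have h1 : a • m * a • y = m * y := by rw [← smul_mul']; exact hfix a
      have e : y⁻¹ * a • y = (a • m)⁻¹ * m := by
        have h2 : a • y = (a • m)⁻¹ * (m * y) := by rw [← h1, inv_mul_cancel_left]
        rw [h2]
        have h3 : (a • m)⁻¹ * m ∈ N := N.mul_mem (N.inv_mem (hN a m (hM0le hm))) (hM0le hm)
        calc y⁻¹ * ((a • m)⁻¹ * (m * y)) = y⁻¹ * (((a • m)⁻¹ * m) * y) := by group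
          _ = y⁻¹ * (y * ((a • m)⁻¹ * m)) := by rw [hab _ h3 y (hle M hM hy)]
          _ = _ := inv_mul_cancel_left _ _
      rw [e]
      exact M0.mul_mem (M0.inv_mem (hM0inv a m hm)) hm
    obtain ⟨y', hy'f, hyy⟩ := exists_fixed_mem_coset_of_isSolvable (M0 ⊓ M) (hM0inv.inf (hinv M hM))
      (hcop.coprime_dvd_right (card_subgroup_dvd_card _)) y hy'
    have hy'M : y' ∈ M := by simpa using M.mul_mem hy hyy.2
    have hm'M : m * y * y'⁻¹ ∈ M0 := by
      have := M0.mul_mem hm (M0.inv_mem hyy.1)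
      simpa [mul_assoc, hab y (hle M hM hy) y'⁻¹ (N.inv_mem (hle M hM hy'M))] using this
    have := mul_mem (hM0good _ hm'M fun a => by rw [smul_mul', smul_inv', hfix a, hy'f a])
      (hgood M hM y' hy'M hy'f)
    simpa using this
  exact le_sup_right.trans (hM0.2 hP le_sup_left)

theorem mem_of_noncentral {p q : ℕ} [Fact p.Prime] [Fact q.Prime] (hA : Nat.card A = p) (hp : p ≠ 2)
    (hnp : ¬ IsPGroup q H) (hcop : (Nat.card A).Coprime (Nat.card H)) [Group.IsSolvable H]
    (hD : actCommutator H A = ⊤) (hb : Below H A) {N : Subgroup H} [N.Normal] (hN : IsInvariant A N)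
    (hN1 : N ≠ ⊥) (hNq : IsPGroup q N) (hab : ∀ x ∈ N, ∀ y ∈ N, x * y = y * x)
    (hNc : ¬ N ≤ center H)
    (hmin : ∀ M : Subgroup H, M.Normal → IsInvariant A M → M ≤ N → M ≠ ⊥ → M = N)
    {c : H} (hc : ∀ a : A, a • c = c) : c ∈ fixGen H A := by
  classical
  refine hb.quot hcop hD hN hN1 (fun n hn hnf => ?_) hc
  by_cases hn1 : n = 1
  · rw [hn1]; exact one_mem _
  set W := fixGen H A
  -- commutators with smaller invariant subgroups
  set 𝒯 := {T : Subgroup H | IsInvariant A T ∧ T ⊔ N ≠ ⊤}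
  have hcl : ∀ T : Subgroup H, ⁅N, T⁆ ≤ N := fun T => commutator_le_left N T
  have hTgood : ∀ T ∈ 𝒯, ∀ x ∈ ⁅N, ds A T⁆, (∀ a : A, a • x = x) → x ∈ W := by
    intro T hT x hx hxf
    have hV := hT.1.sup hN
    refine hb.sub hcop hV hT.2 ((commutator_le.2 fun m hm d hd => ?_ : ⁅N, ds A T⁆ ≤ ds A (T ⊔ N)) hx) hxf
    have hd' : d ∈ ds A (T ⊔ N) := ds_mono le_sup_left hd
    rw [commutatorElement_def]
    have h1 := conj_mem_ds (inv_mem (mem_sup_right hm : m ∈ T ⊔ N)) hd'
    rw [inv_inv] at h1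
    exact mul_mem h1 (inv_mem hd')
  have hTinv : ∀ T : Subgroup H, IsInvariant A T → IsInvariant A ⁅N, T⁆ := by
    intro T hT a
    have h : ⁅N, T⁆ ≤ ⁅N, T⁆.comap (MulDistribMulAction.toMonoidHom H a) :=
      commutator_le.2 fun m hm t ht => by
        show a • ⁅m, t⁆ ∈ ⁅N, T⁆
        rw [show a • ⁅m, t⁆ = ⁅a • m, a • t⁆ by simp only [commutatorElement_def, smul_mul', smul_inv']]
        exact commutator_mem_commutator (hN a m hm) (hT a t ht)
    exact fun x hx => h hx
  have hfam : sSup ((fun T => ⁅N, ds A T⁆) '' 𝒯) ≤ N ∧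
      ∀ x ∈ sSup ((fun T => ⁅N, ds A T⁆) '' 𝒯), (∀ a : A, a • x = x) → x ∈ W :=
    fixed_inf_le_of_family hcop hN hab _ (by rintro _ ⟨T, -, rfl⟩; exact hcl _)
      (by rintro _ ⟨T, hT, rfl⟩; exact hTinv _ (isInvariant_ds hT.1))
      (by rintro _ ⟨T, hT, rfl⟩; exact hTgood T hT)
  set X := sSup ((fun T => ⁅N, ds A T⁆) '' 𝒯)
  set L1 := sSup (ds A '' 𝒯)
  have hgenN : L1 ⊔ N = ⊤ → n ∈ W := by
    intro hgen
    have hXconj : ∀ T ∈ 𝒯, ∀ x ∈ ds A T, ∀ m ∈ X, x * m * x⁻¹ ∈ X := by
      intro T hT x hx m hm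
      have h1 : ⁅m, x⁆ ∈ X :=
        (le_sSup (Set.mem_image_of_mem (fun T => ⁅N, ds A T⁆) hT) : ⁅N, ds A T⁆ ≤ X) (commutator_mem_commutator (hfam.1 hm) hx)
      have e : x * m * x⁻¹ = ⁅m, x⁆⁻¹ * m := by rw [commutatorElement_def]; group
      rw [e]
      exact mul_mem (inv_mem h1) hm
    have hXn : X.Normal := normalizer_eq_top_iff.1 (top_unique (hgen.symm.le.trans (sup_le
      (sSup_le (by rintro _ ⟨T, hT, rfl⟩; exact le_normalizer_of_conj (hXconj T hT)))
      (le_normalizer_of_conj fun x hx m hm => by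
        rw [hab x hx m (hfam.1 hm), mul_inv_cancel_right]; exact hm))))
    have hXi : IsInvariant A X := by
      intro a x hx
      have h : X ≤ X.comap (MulDistribMulAction.toMonoidHom H a) := sSup_le (by
        rintro _ ⟨T, hT, rfl⟩ y hy
        exact (le_sSup (Set.mem_image_of_mem (fun T => ⁅N, ds A T⁆) hT) : ⁅N, ds A T⁆ ≤ X) (hTinv _ (isInvariant_ds hT.1) a y hy))
      exact h hx
    by_cases hX : X = ⊥
    · exfalso
      refine hNc fun m hm => ?_
      have h : L1 ⊔ N ≤ centralizer ({m} : Set H) := sup_le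
        (sSup_le (by
          rintro _ ⟨T, hT, rfl⟩ x hx
          rw [mem_centralizer_singleton_iff]
          have h1 : ⁅m, x⁆ ∈ X :=
            (le_sSup (Set.mem_image_of_mem (fun T => ⁅N, ds A T⁆) hT) : ⁅N, ds A T⁆ ≤ X) (commutator_mem_commutator hm hx)
          rw [hX, mem_bot, commutatorElement_eq_one_iff_commute] at h1
          exact h1.symm))
        (fun x hx => mem_centralizer_singleton_iff.2 (hab x hx m hm))
      rw [hgen] at h
      exact mem_center_iff.2 fun g => mem_centralizer_singleton_iff.1 (h (mem_top g))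
    · exact hfam.2 n (hmin X hXn hXi hfam.1 hX ▸ hn) hnf
  by_cases hallS : ∀ (r : ℕ) [Fact r.Prime] (S : Sylow r H), IsInvariant A (S : Subgroup H) →
      (S : Subgroup H) ⊔ N ≠ ⊤
  · refine hgenN ?_
    set L0 := L1 ⊔ N with hL0
    -- fixed elements normalise `L0`
    have hCL : ∀ e : H, (∀ a : A, a • e = e) → ∀ x ∈ L0, e * x * e⁻¹ ∈ L0 := by
      intro e he
      have hTc : ∀ T ∈ 𝒯, T.map (MulAut.conj e).toMonoidHom ∈ 𝒯 := by
        intro T hT
        refine ⟨?_, fun htop => hT.2 ?_⟩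
        · rintro a _ ⟨x, hx, rfl⟩
          refine ⟨a • x, hT.1 a x hx, ?_⟩
          show e * a • x * e⁻¹ = a • (e * x * e⁻¹)
          rw [smul_mul', smul_mul', smul_inv', he a]
        · have h1 : (T ⊔ N).map (MulAut.conj e).toMonoidHom = ⊤ := by
            rw [Subgroup.map_sup, show N.map (MulAut.conj e).toMonoidHom = N from
              le_antisymm (by rintro _ ⟨x, hx, rfl⟩; exact ‹N.Normal›.conj_mem x hx e)
                (fun x hx => ⟨e⁻¹ * x * e, by simpa using ‹N.Normal›.conj_mem x hx e⁻¹,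
                  by show e * (e⁻¹ * x * e) * e⁻¹ = x; group⟩)]
            exact htop
          refine eq_top_of_card_eq _ ?_
          rw [← card_map_of_injective (f := (MulAut.conj e).toMonoidHom) (MulAut.conj e).injective (K := T ⊔ N)]
          exact h1 ▸ Subgroup.card_top
      have h : L0 ≤ L0.comap (MulAut.conj e).toMonoidHom := sup_le
        (sSup_le (by
          rintro _ ⟨T, hT, rfl⟩
          rw [ds, closure_le]
          rintro _ ⟨a, x, hx, rfl⟩
          refine mem_sup_left ((le_sSup (Set.mem_image_of_mem (ds A) (hTc T hT)) : ds A _ ≤ L1) ?_)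
          refine subset_closure ⟨a, e * x * e⁻¹, ⟨x, hx, rfl⟩, ?_⟩
          show e * (x⁻¹ * a • x) * e⁻¹ = _
          rw [smul_mul', smul_mul', smul_inv', he a]
          group))
        (fun x hx => mem_sup_right (‹N.Normal›.conj_mem x hx e))
      exact fun x hx => h hx
    have hSds : ∀ (r : ℕ) [Fact r.Prime] (S : Sylow r H), IsInvariant A (S : Subgroup H) →
        ds A (S : Subgroup H) ≤ L0 := fun r _ S hS =>
      le_sup_of_le_left (le_sSup ⟨_, ⟨hS, hallS r S hS⟩, rfl⟩)
    haveI hL0n : L0.Normal := by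
      refine normalizer_eq_top_iff.1 (eq_top_of_invariant_sylow hcop fun r _ S hS x hx => ?_)
      obtain ⟨e, -, he, hd⟩ := exists_fixed_mul hcop hS hx
      rw [← mul_inv_cancel_left e x]
      exact mul_mem (le_normalizer_of_conj (K := FixedPoints.subgroup A H) (fun y hy => hCL y hy) he)
        (le_normalizer (hSds r S hS hd))
    let M : Subgroup H :=
      { carrier := {g | ∀ a : A, g⁻¹ * a • g ∈ L0}
        one_mem' := fun a => by simp
        mul_mem' := fun {x y} hx hy a => by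
          rw [show (x * y)⁻¹ * a • (x * y) = (y⁻¹ * (x⁻¹ * a • x) * y) * (y⁻¹ * a • y) by
            rw [smul_mul']; group]
          exact mul_mem (by simpa using hL0n.conj_mem _ (hx a) y⁻¹) (hy a)
        inv_mem' := fun {x} hx a => by
          rw [show x⁻¹⁻¹ * a • x⁻¹ = x * (x⁻¹ * a • x)⁻¹ * x⁻¹ by rw [smul_inv']; group]
          exact hL0n.conj_mem _ (inv_mem (hx a)) x }
    have hM : M = ⊤ := eq_top_of_invariant_sylow hcop fun r _ S hS x hx a => hSds r S hS (mem_ds a hx)
    exact top_unique (hD ▸ actCommutator_le_iff.2 fun a g => (hM ▸ mem_top g : g ∈ M) a)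
  push Not at hallS
  obtain ⟨r, hr, S0, hS, hSN⟩ := hallS
  haveI := hr
  set S : Subgroup H := (S0 : Subgroup H)
  have hrq : r ≠ q := by
    intro hrq
    subst hrq
    refine hnp fun x => ?_
    obtain ⟨k, hk⟩ := (S0.2.to_sup_of_normal_right hNq) ⟨x, hSN ▸ mem_top x⟩
    exact ⟨k, by simpa using congrArg Subtype.val hk⟩
  have hSd : S ⊓ N = ⊥ := disjoint_iff.1 (IsPGroup.disjoint_of_ne r q hrq _ _ S0.2 hNq)
  have hone : ∀ x, x ∈ S → x ∈ N → x = 1 := fun x h1 h2 => mem_bot.1 (hSd ▸ ⟨h1, h2⟩)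
  have hSne : S ≠ ⊤ := fun h => hN1 (by rw [← hSd, h, top_inf_eq])
  have hdec : ∀ {K : Subgroup H}, K ⊔ N = ⊤ → ∀ g : H, ∃ s ∈ K, ∃ m ∈ N, g = s * m := by
    intro K hK g
    have hg : g ∈ ((K ⊔ N : Subgroup H) : Set H) := by rw [hK]; trivial
    rw [Subgroup.mul_normal] at hg
    obtain ⟨s, hs, m, hm, e⟩ := hg
    exact ⟨s, hs, m, hm, e.symm⟩
  have hdsS : ds A S = S := by
    refine le_antisymm (ds_le hS) fun s hs => ?_
    have hK : ds A S ⊔ N = ⊤ := top_unique (hD ▸ actCommutator_le_iff.2 fun a g => by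
      obtain ⟨t, ht, m, hm, rfl⟩ := hdec hSN g
      rw [smul_mul', show (t * m)⁻¹ * (a • t * a • m) = m⁻¹ * (t⁻¹ * a • t) * a • m by group]
      exact mul_mem (mul_mem (mem_sup_right (inv_mem hm)) (mem_sup_left (mem_ds a ht)))
        (mem_sup_right (hN a m hm)))
    obtain ⟨d, hd, m, hm, rfl⟩ := hdec hK s
    have h1 : m ∈ S := by simpa using S.mul_mem (S.inv_mem (ds_le hS hd)) hs
    rwa [hone m h1 hm, mul_one]
  have hSW : ∀ x ∈ S, (∀ a : A, a • x = x) → x ∈ W := fun x hx hxf =>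
    hb.sub hcop hS hSne (hdsS.symm.le hx) hxf
  have hcommS : ∀ z : H, (∀ s ∈ S, s * z = z * s) → (∀ m ∈ N, m * z = z * m) → z ∈ center H :=
    fun z h1 h2 => mem_center_iff.2 fun g => by
      obtain ⟨s, hs, m, hm, rfl⟩ := hdec hSN g
      rw [mul_assoc, h2 m hm, ← mul_assoc, h1 s hs, mul_assoc]
  set Z : Subgroup H := S ⊓ centralizer (S : Set H)
  have hZS : ∀ z ∈ Z, ∀ s ∈ S, s * z = z * s := fun z hz s hs => mem_centralizer_iff.1 hz.2 s hs
  have hZi : IsInvariant A Z := by
    refine hS.inf fun a x hx => mem_centralizer_iff.2 fun s hs => ?_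
    have h := congrArg (a • ·) (mem_centralizer_iff.1 hx (a⁻¹ • s) (hS a⁻¹ s hs))
    simpa [smul_mul'] using h
  -- fixed central elements of `S`
  by_cases hzf : ∃ z ∈ Z, z ≠ 1 ∧ ∀ a : A, a • z = z
  · obtain ⟨z, hz, hz1, hzfix⟩ := hzf
    have hzW : z ∈ W := hSW z hz.1 hzfix
    by_cases hzN : ∀ m ∈ N, m * z = z * m
    · have hzc := hcommS z (hZS z hz) hzN
      haveI : (zpowers z).Normal := ⟨fun x hx g => by
        rw [mem_center_iff.1 (zpowers_le.2 hzc hx) g, mul_inv_cancel_right]; exact hx⟩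
      refine hb.quot hcop hD (N := zpowers z) ?_ (zpowers_ne_bot.2 hz1)
        (fun m hm _ => zpowers_le.2 hzW hm) hnf
      rintro a _ ⟨k, rfl⟩
      exact ⟨k, by show z ^ k = a • z ^ k; rw [smul_zpow', hzfix a]⟩
    · set K : Subgroup H := N ⊓ centralizer ({z} : Set H)
      have hK : K = ⊥ := by
        by_contra hK
        have hKn : K.Normal := normal_of_sup hSN
          (fun x hx m hm => ⟨‹N.Normal›.conj_mem m hm.1 x, mem_centralizer_singleton_iff.2 (by
            have h1 : x * z = z * x := hZS z hz x hx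
            have h2 : m * z = z * m := mem_centralizer_singleton_iff.1 hm.2
            have h3 : x⁻¹ * z = z * x⁻¹ := by
              rw [inv_mul_eq_iff_eq_mul, ← mul_assoc, h1, mul_inv_cancel_right]
            rw [mul_assoc (x * m), h3, ← mul_assoc, mul_assoc x m z, h2, ← mul_assoc, h1, mul_assoc z x m,
              mul_assoc z (x * m)])⟩)
          (fun x hx m hm => by rw [hab x hx m hm.1, mul_inv_cancel_right]; exact hm)
        have h := hmin K hKn (hN.inf fun a x hx => mem_centralizer_singleton_iff.2 (by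
          have h := congrArg (a • ·) (mem_centralizer_singleton_iff.1 hx)
          simpa [smul_mul', hzfix a] using h)) inf_le_left hK
        exact hzN fun m hm => mem_centralizer_singleton_iff.1 (h.symm.le hm).2
      let CN : Subgroup H := N ⊓ FixedPoints.subgroup A H
      let f : CN → CN := fun x => ⟨z * x * z⁻¹ * (x : H)⁻¹,
        ⟨N.mul_mem (‹N.Normal›.conj_mem _ x.2.1 z) (N.inv_mem x.2.1), fun a => by
          rw [smul_mul', smul_mul', smul_mul', smul_inv', smul_inv', hzfix a, x.2.2 a]⟩⟩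
      have hfi : Function.Injective f := by
        intro x y hxy
        have h : z * (x : H) * z⁻¹ * (x : H)⁻¹ = z * (y : H) * z⁻¹ * (y : H)⁻¹ := congrArg Subtype.val hxy
        have hd : (y : H)⁻¹ * x ∈ K := ⟨N.mul_mem (N.inv_mem y.2.1) x.2.1,
          mem_centralizer_singleton_iff.2 (by
            have e1 : z * (x : H) * z⁻¹ = z * (y : H) * z⁻¹ * ((y : H)⁻¹ * x) := by
              rw [← mul_assoc, ← h, inv_mul_cancel_right]
            have e2 : z * ((y : H)⁻¹ * x) * z⁻¹ = (y : H)⁻¹ * x := by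
              calc z * ((y : H)⁻¹ * x) * z⁻¹ = (z * (y : H) * z⁻¹)⁻¹ * (z * (x : H) * z⁻¹) := by group
                _ = _ := by rw [e1, inv_mul_cancel_left]
            exact (mul_inv_eq_iff_eq_mul.1 e2).symm)⟩
        rw [hK, mem_bot] at hd
        exact Subtype.ext (inv_mul_eq_one.1 hd).symm
      obtain ⟨x, hx⟩ := Finite.surjective_of_injective hfi (⟨n, hn, hnf⟩ : CN)
      have e : n = z * x * z⁻¹ * (x : H)⁻¹ := (congrArg Subtype.val hx).symm
      rw [e, mul_assoc z, mul_assoc z]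
      exact mul_mem hzW (conj_mem_fixGen x.2.2 (inv_mem hzW))
  push Not at hzf
  have hZfree : ∀ z ∈ Z, (∀ a : A, a • z = z) → z = 1 := fun z hz hzfix => by
    by_contra hz1
    obtain ⟨a, ha⟩ := hzf z hz hz1
    exact ha (hzfix a)
  -- invariant subgroups of the centre of `S`
  by_cases hS' : ∃ S' : Subgroup H, IsInvariant A S' ∧ S' ≤ Z ∧ S' ≠ ⊥ ∧ S' ≠ S
  · obtain ⟨S', hS'i, hS'Z, hS'1, hS'S⟩ := hS'
    have hds' : S' ≤ ds A S' := fun x hx => by
      obtain ⟨e, he, hef, hd⟩ := exists_fixed_mul hcop hS'i hx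
      rwa [hZfree e (hS'Z he) hef, inv_one, one_mul] at hd
    have hT : S' ∈ 𝒯 := ⟨hS'i, fun htop => hS'S (le_antisymm (hS'Z.trans inf_le_left) fun s hs => by
      obtain ⟨t, ht, m, hm, rfl⟩ := hdec htop s
      have h1 : m ∈ S := by simpa using S.mul_mem (S.inv_mem (hS'Z ht).1) hs
      rwa [hone m h1 hm, mul_one])⟩
    by_cases hY : ⁅N, S'⁆ = ⊥
    · haveI : S'.Normal := ⟨fun x hx g => by
        have hxc : x ∈ center H := hcommS x (hZS x (hS'Z hx)) fun m hm => by
          have h : ⁅m, x⁆ ∈ ⁅N, S'⁆ := commutator_mem_commutator hm hx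
          rwa [hY, mem_bot, commutatorElement_eq_one_iff_commute] at h
        rw [mem_center_iff.1 hxc g, mul_inv_cancel_right]; exact hx⟩
      exact hb.quot hcop hD hS'i hS'1
        (fun m hm hmf => by rw [hZfree m (hS'Z hm) hmf]; exact one_mem _) hnf
    · have hYn : ⁅N, S'⁆.Normal := normal_of_sup hSN
        (fun x hx => by
          have h : ⁅N, S'⁆ ≤ ⁅N, S'⁆.comap (MulAut.conj x).toMonoidHom :=
            commutator_le.2 fun m hm t ht => by
              show x * ⁅m, t⁆ * x⁻¹ ∈ ⁅N, S'⁆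
              rw [conjugate_commutatorElement, show x * t * x⁻¹ = t by
                rw [hZS t (hS'Z ht) x hx, mul_inv_cancel_right]]
              exact commutator_mem_commutator (‹N.Normal›.conj_mem m hm x) ht
          exact fun m hm => h hm)
        (fun x hx m hm => by rw [hab x hx m (hcl S' hm), mul_inv_cancel_right]; exact hm)
      refine hTgood S' hT n (commutator_mono le_rfl hds' ?_) hnf
      rw [hmin _ hYn (hTinv _ hS'i) (hcl S') hY]
      exact hn
  push Not at hS'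
  have hS1 : S ≠ ⊥ := fun h => hSd |> fun _ => by
    rw [h, bot_sup_eq] at hSN
    exact hnp fun x => by
      obtain ⟨k, hk⟩ := hNq ⟨x, hSN ▸ mem_top x⟩
      exact ⟨k, by simpa using congrArg Subtype.val hk⟩
  have hZ1 : Z ≠ ⊥ := by
    intro hZ
    haveI := (nontrivial_iff_ne_bot S).2 hS1
    haveI := S0.2.center_nontrivial
    obtain ⟨⟨⟨z, hzS⟩, hzc⟩, hz1⟩ := exists_ne (1 : center S)
    have : z ∈ Z := ⟨hzS, mem_centralizer_iff.2 fun s hs =>
      congrArg Subtype.val (mem_center_iff.1 hzc ⟨s, hs⟩)⟩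
    rw [hZ, mem_bot] at this
    exact hz1 (Subtype.ext (Subtype.ext this))
  have hZeq : Z = S := hS' Z hZi le_rfl hZ1
  have hSmin : ∀ S' : Subgroup H, IsInvariant A S' → S' ≤ S → S' ≠ ⊥ → S' = S := fun S' h1 h2 h3 =>
    hS' S' h1 (hZeq ▸ h2) h3
  have hSfree : ∀ s ∈ S, (∀ a : A, a • s = s) → s = 1 := fun s hs => hZfree s (hZeq.symm ▸ hs)
  have hCNS : ∀ m ∈ N, (∀ s ∈ S, s * m = m * s) → m = 1 := by
    intro m hm hms
    set K : Subgroup H := N ⊓ centralizer (S : Set H)
    by_contra hm1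
    have hK : K ≠ ⊥ := fun h => hm1 (by
      have : m ∈ K := ⟨hm, mem_centralizer_iff.2 hms⟩
      rwa [h, mem_bot] at this)
    have hKn : K.Normal := normal_of_sup hSN
      (fun x hx y hy => ⟨‹N.Normal›.conj_mem y hy.1 x, by
        rw [mem_centralizer_iff.1 hy.2 x hx, mul_inv_cancel_right]; exact hy.2⟩)
      (fun x hx y hy => by rw [hab x hx y hy.1, mul_inv_cancel_right]; exact hy)
    have h := hmin K hKn (hN.inf fun a x hx => mem_centralizer_iff.2 fun s hs => by
      have h := congrArg (a • ·) (mem_centralizer_iff.1 hx (a⁻¹ • s) (hS a⁻¹ s hs))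
      simpa [smul_mul'] using h) inf_le_left hK
    exact hNc fun y hy => hcommS y (fun s hs => mem_centralizer_iff.1 (h.symm.le hy).2 s hs)
      (fun k hk => hab k hk y hy)
  -- every `[h, A]` is a complement
  by_cases hbig : ∃ h : H, N ≤ cm A h ∧ cm A h ⊔ N = ⊤
  · obtain ⟨h, h1, h2⟩ := hbig
    exact mem_fixGen (h := h) (h1 hn) hnf
  push Not at hbig
  obtain ⟨s, hs, hs1⟩ := (bot_or_exists_ne_one S).resolve_left hS1
  let CN : Subgroup H := N ⊓ FixedPoints.subgroup A H
  have hcover : ∀ v ∈ N, ∃ w : H, s * w * s⁻¹ ∈ CN ∧ ∃ x ∈ CN, v = w * x := by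
    intro v hv
    set h := s * v
    set K := cm A h
    have hKN : K ⊔ N = ⊤ := by
      set S'' := S ⊓ (K ⊔ N)
      have hmem : ∀ a : A, s⁻¹ * a • s ∈ S'' := fun a => ⟨S.mul_mem (S.inv_mem hs) (hS a s hs), by
        have h1 := mem_cm h a
        rw [show s⁻¹ * a • s = v * (h⁻¹ * a • h) * (a • v)⁻¹ by simp only [h, smul_mul']; group]
        exact (K ⊔ N).mul_mem ((K ⊔ N).mul_mem (mem_sup_right hv) (mem_sup_left h1))
          ((K ⊔ N).inv_mem (mem_sup_right (hN a v hv)))⟩
      have hne : S'' ≠ ⊥ := fun e => hs1 (hSfree s hs fun a => by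
        have := hmem a
        rw [e, mem_bot, inv_mul_eq_one] at this
        exact this.symm)
      have heq := hSmin S'' (hS.inf ((isInvariant_cm h).sup hN)) inf_le_left hne
      exact top_unique (hSN.symm.le.trans (sup_le (fun x hx => (heq.symm.le hx).2) le_sup_right))
    have hKd : K ⊓ N = ⊥ := by
      by_contra hne
      have hn' : (K ⊓ N).Normal := normal_of_sup hKN
        (fun x hx m hm => ⟨K.mul_mem (K.mul_mem hx hm.1) (K.inv_mem hx), ‹N.Normal›.conj_mem m hm.2 x⟩)
        (fun x hx m hm => by rw [hab x hx m hm.2, mul_inv_cancel_right]; exact hm)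
      exact hbig h ((hmin _ hn' ((isInvariant_cm h).inf hN) inf_le_right hne).symm.le.trans inf_le_left) hKN
    have hcompl : ∀ L : Subgroup H, L ⊔ N = ⊤ → L ⊓ N = ⊥ → IsComplement' N L := fun L h1 h2 =>
      isComplement'_of_disjoint_and_mul_eq_univ (disjoint_iff.2 (by rw [inf_comm, h2]))
        (by rw [← Subgroup.normal_mul, sup_comm, h1]; rfl)
    have hcN : (Nat.card N).Coprime N.index := by
      have h1 := (hcompl S hSN hSd).index_eq_card
      obtain ⟨a, ha⟩ := IsPGroup.iff_card.1 hNq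
      obtain ⟨b, hb'⟩ := IsPGroup.iff_card.1 S0.2
      rw [(hcompl S hSN hSd).symm.index_eq_card, ha, hb']
      exact Nat.coprime_pow_primes a b Fact.out Fact.out (Ne.symm hrq)
    haveI : IsMulCommutative N := ⟨⟨fun x y => Subtype.ext (hab x x.2 y y.2)⟩⟩
    obtain ⟨x, hxN, hx⟩ := CfsgLib.SZ.conj_of_solvable N hcN (Or.inl inferInstance) S K
      (hcompl S hSN hSd) (hcompl K hKN hKd)
    have hxK : ∀ k ∈ K, x⁻¹ * k * x ∈ S := fun k hk => by
      rw [← hx, Subgroup.mem_pointwise_smul_iff_inv_smul_mem] at hk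
      simpa [MulAut.smul_def] using hk
    have hSx : ∀ t ∈ S, x * t * x⁻¹ ∈ K := fun t ht => by
      rw [← hx, Subgroup.mem_pointwise_smul_iff_inv_smul_mem]
      simpa [MulAut.smul_def, mul_assoc] using ht
    have hxf : ∀ a : A, a • x = x := by
      intro a
      have hyN : x⁻¹ * a • x ∈ N := N.mul_mem (N.inv_mem hxN) (hN a x hxN)
      refine (inv_mul_eq_one.1 (hCNS _ hyN fun t ht => ?_)).symm
      set y := x⁻¹ * a • x
      have h1 : y * t * y⁻¹ ∈ S := by
        have h2 := hxK _ (isInvariant_cm h a _ (hSx _ (hS a⁻¹ t ht)))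
        rw [smul_mul', smul_mul', smul_inv', smul_inv_smul] at h2
        rw [show y * t * y⁻¹ = x⁻¹ * (a • x * t * (a • x)⁻¹) * x by simp only [y]; group]
        exact h2
      have h3 : y * t * y⁻¹ * t⁻¹ = 1 := hone _ (S.mul_mem h1 (S.inv_mem ht)) (by
        rw [show y * t * y⁻¹ * t⁻¹ = y * (t * y⁻¹ * t⁻¹) by group]
        exact N.mul_mem hyN (‹N.Normal›.conj_mem _ (N.inv_mem hyN) t))
      have h4 : y * t * y⁻¹ = t := mul_inv_eq_one.1 h3
      exact (mul_inv_eq_iff_eq_mul.1 h4).symm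
    refine ⟨v * x, ⟨‹N.Normal›.conj_mem _ (N.mul_mem hv hxN) s, fun a => ?_⟩, x⁻¹,
      ⟨N.inv_mem hxN, fun a => by rw [smul_inv', hxf a]⟩, (mul_inv_cancel_right v x).symm⟩
    set w := v * x with hw
    set t := s⁻¹ * a • s with ht
    have htS : t ∈ S := S.mul_mem (S.inv_mem hs) (hS a s hs)
    have hwN : w ∈ N := N.mul_mem hv hxN
    have h1 := hxK _ (mem_cm h a)
    rw [show x⁻¹ * (h⁻¹ * a • h) * x = w⁻¹ * t * a • w by
      simp only [w, t, h, smul_mul', hxf a]; group] at h1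
    have h2 : t⁻¹ * w⁻¹ * t * a • w = 1 := hone _ (by
        rw [show t⁻¹ * w⁻¹ * t * a • w = t⁻¹ * (w⁻¹ * t * a • w) by group]
        exact S.mul_mem (S.inv_mem htS) h1)
      (N.mul_mem (by simpa using ‹N.Normal›.conj_mem _ (N.inv_mem hwN) t⁻¹) (hN a w hwN))
    have h3 : a • w = t⁻¹ * w * t := by
      rw [← inv_mul_eq_one.1 (show (t⁻¹ * w * t)⁻¹ * a • w = 1 by rw [← h2]; group)]
    rw [smul_mul', smul_mul', smul_inv', h3, ht]
    group
  -- counting
  exfalso
  have hle : Nat.card N ≤ Nat.card CN * Nat.card CN := by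
    rw [← Nat.card_prod]
    refine Nat.card_le_card_of_surjective
      (fun z => (⟨(s⁻¹ * (z.1 : H) * s) * z.2,
        N.mul_mem (by simpa using ‹N.Normal›.conj_mem _ z.1.2.1 s⁻¹) z.2.2.1⟩ : N)) fun ⟨v, hv⟩ => ?_
    obtain ⟨w, hw, x, hx, e⟩ := hcover v hv
    exact ⟨(⟨_, hw⟩, ⟨x, hx⟩), Subtype.ext (show s⁻¹ * (s * w * s⁻¹) * s * x = v by rw [e]; group)⟩
  -- the Frobenius group `SA` on `N`
  let φS : A →* MulAut S := restrictAut (MulDistribMulAction.toMulAut A H) S fun a x hx => hS a x hx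
  let φN : A →* MulAut N := restrictAut (MulDistribMulAction.toMulAut A H) N fun a x hx => hN a x hx
  let ψ : S ⋊[φS] A →* MulAut N := SemidirectProduct.lift ((MulAut.conjNormal).comp S.subtype) φN
    (fun a => MonoidHom.ext fun t => MulEquiv.ext fun m => Subtype.ext (by
      show (a • (t : H)) * (m : H) * (a • (t : H))⁻¹ = a • ((t : H) * a⁻¹ • (m : H) * (t : H)⁻¹)
      rw [smul_mul', smul_mul', smul_inv', smul_inv_smul]))
  let U : Subgroup (S ⋊[φS] A) := (SemidirectProduct.inl : S →* S ⋊[φS] A).range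
  let E : Subgroup (S ⋊[φS] A) := (SemidirectProduct.inr : A →* S ⋊[φS] A).range
  haveI : Finite (S ⋊[φS] A) := Finite.of_equiv _ SemidirectProduct.equivProd.symm
  have hUn : U.Normal := by
    show (SemidirectProduct.inl : S →* S ⋊[φS] A).range.Normal
    rw [SemidirectProduct.range_inl_eq_ker_rightHom]
    infer_instance
  have hpow := CfsgLib.Coprime.card_eq_pow (U := U) (E := E) (normalizer_eq_top_iff.2 hUn ▸ le_top) (by
      rw [eq_bot_iff]
      rintro _ ⟨⟨t, rfl⟩, ⟨a, ha⟩⟩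
      have := congrArg SemidirectProduct.left ha
      simp at this
      rw [mem_bot, ← this, map_one]) (by
      rintro _ ⟨a, rfl⟩ ha _ ⟨t, rfl⟩ hat
      have h1 : φS a t = t := by
        have := congrArg SemidirectProduct.left hat
        simpa using this
      have ha1 : a ≠ 1 := fun e => ha (by rw [e, map_one])
      have h2 : (t : H) = 1 := hSfree t t.2 fun b => by
        have hb' : b ∈ zpowers a := mem_zpowers_of_prime_card (p := p) hA ha1
        obtain ⟨k, rfl⟩ := hb'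
        have h3 : a • (t : H) = t := congrArg Subtype.val h1
        have h4 : (t : H) ∈ MulAction.fixedBy H a := h3
        exact MulAction.mem_fixedBy_zpow h4 k
      rw [show t = 1 from Subtype.ext h2, map_one]) (H := N) inferInstance (by
      rw [SemidirectProduct.card]
      refine Nat.Coprime.mul_left ?_ (hcop.coprime_dvd_right (card_subgroup_dvd_card _))
      obtain ⟨a, ha⟩ := IsPGroup.iff_card.1 hNq
      obtain ⟨b, hb'⟩ := IsPGroup.iff_card.1 S0.2
      rw [ha, hb']
      exact Nat.coprime_pow_primes b a Fact.out Fact.out hrq) ψ (eq_bot_iff.2 fun m hm => by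
      rw [mem_bot]
      refine Subtype.ext (hCNS m m.2 fun t ht => ?_)
      have h := congrArg Subtype.val (hm (SemidirectProduct.inl ⟨t, ht⟩) ⟨_, rfl⟩)
      simp only [ψ, SemidirectProduct.lift_inl] at h
      exact mul_inv_eq_iff_eq_mul.1 h)
  have hE : Nat.card E = p := by
    rw [← Nat.card_congr (MonoidHom.ofInjective SemidirectProduct.inr_injective).toEquiv, hA]
  have hCE : Nat.card CN ≤ Nat.card (fixedSub ψ E) := by
    refine Nat.card_le_card_of_injective (fun x => (⟨⟨(x : H), x.2.1⟩, ?_⟩ : fixedSub ψ E)) fun x y h =>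
      Subtype.ext (congrArg (fun z : fixedSub ψ E => ((z : N) : H)) h)
    rintro _ ⟨a, rfl⟩
    simp only [ψ, SemidirectProduct.lift_inr]
    exact Subtype.ext (x.2.2 a)
  rw [hE] at hpow
  have hC2 : 2 ≤ Nat.card CN := by
    haveI : Nontrivial CN := ⟨⟨n, hn, hnf⟩, 1, fun e => hn1 (congrArg Subtype.val e)⟩
    exact Finite.one_lt_card
  have h3 : 3 ≤ p := (show 2 ≤ p from (Fact.out : p.Prime).two_le).lt_of_ne' hp
  have h4 : Nat.card CN ^ 3 ≤ Nat.card N := by
    rw [hpow]
    exact (Nat.pow_le_pow_left hCE 3).trans (Nat.pow_le_pow_right Nat.card_pos h3)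
  nlinarith

end CfsgLib.CommFixed
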