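import Cfsg.Agent.CommFixed.Central
import Cfsg.Agent.CommFixed.Noncentral
import Cfsg.Agent.Solvable.Basics

/-!
Fixed points of a group of odd prime order in `[H, A]` are generated by those in the `[h, A]`.
-/

set_option autoImplicit false
set_option linter.style.haveILetI false
set_option linter.unusedSectionVars false

namespace CfsgLib.CommFixed

open Subgroup CfsgLib.Coprime
open scoped commutatorElement

universe u v

theorem main_aux {A : Type v} [Group A] [Finite A] {p : ℕ} [Fact p.Prime] (hA : Nat.card A = p)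
    (hp : p ≠ 2) (n : ℕ) : ∀ (H : Type u) [Group H] [Finite H] [MulDistribMulAction A H],
    Nat.card H = n → (Nat.card A).Coprime (Nat.card H) → Group.IsSolvable H → Good H A := by
  classical
  haveI : IsCyclic A := isCyclic_of_prime_card hA
  haveI : Group.IsSolvable A := by
    letI : CommGroup A := IsCyclic.commGroup
    infer_instance
  have hodd : Odd (Nat.card A) := hA ▸ (Fact.out : p.Prime).odd_of_ne_two hp
  induction n using Nat.strong_induction_on with
  | _ n ih =>
    intro H _ _ _ hn hcop hsolv c hc hcfix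
    haveI := hsolv
    have hb : Below H A := fun K _ _ _ hK hKc hKs => ih (Nat.card K) (hn ▸ hK) K rfl hKc hKs
    by_cases hD : actCommutator H A = ⊤
    swap
    · have h1 : actCommutator H A ≤ ds A (actCommutator H A) := actCommutator_le_iff.2 fun a g => by
        obtain ⟨y, hy, e⟩ := exists_mem_actCommutator_eq hcop a g
        rw [e]; exact mem_ds a hy
      exact hb.sub hcop isInvariant_actCommutator hD (h1 hc) hcfix
    by_cases hq : ∃ q : ℕ, q.Prime ∧ IsPGroup q H
    · obtain ⟨q, hqp, hq⟩ := hq
      haveI := Fact.mk hqp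
      exact mem_of_pGroup hq hcop hodd hD hb hcfix
    push Not at hq
    haveI : Nontrivial H := by
      by_contra h
      rw [not_nontrivial_iff_subsingleton] at h
      exact hq 2 Nat.prime_two fun x => ⟨0, Subsingleton.elim _ _⟩
    -- a minimal invariant normal subgroup
    haveI : Finite (Subgroup H) :=
      Finite.of_injective (fun K : Subgroup H => (K : Set H)) SetLike.coe_injective
    obtain ⟨N, hN⟩ := Set.Finite.exists_minimal
      (Set.toFinite {M : Subgroup H | M.Normal ∧ IsInvariant A M ∧ M ≠ ⊥})
      ⟨⊤, inferInstance, IsInvariant.top A, bot_ne_top.symm⟩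
    obtain ⟨hNn, hNi, hN1⟩ := hN.1
    haveI := hNn
    have hmin : ∀ M : Subgroup H, M.Normal → IsInvariant A M → M ≤ N → M ≠ ⊥ → M = N :=
      fun M h1 h2 h3 h4 => le_antisymm h3 (hN.2 ⟨h1, h2, h4⟩ h3)
    -- it is abelian
    have hab : ∀ x ∈ N, ∀ y ∈ N, x * y = y * x := by
      by_cases hc0 : ⁅N, N⁆ = ⊥
      · intro x hx y hy
        have h := commutator_mem_commutator hx hy
        rwa [hc0, mem_bot, commutatorElement_eq_one_iff_commute] at h
      · exfalso
        have hinv : IsInvariant A ⁅N, N⁆ := by
          intro a x hx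
          have h : ⁅N, N⁆ ≤ ⁅N, N⁆.comap (MulDistribMulAction.toMonoidHom H a) :=
            commutator_le.2 fun m hm t ht => by
              show a • ⁅m, t⁆ ∈ ⁅N, N⁆
              rw [show a • ⁅m, t⁆ = ⁅a • m, a • t⁆ by simp only [commutatorElement_def, smul_mul', smul_inv']]
              exact commutator_mem_commutator (hNi a m hm) (hNi a t ht)
          exact h hx
        have h1 : ⁅N, N⁆ = N := hmin _ inferInstance hinv (commutator_le_left N N) hc0
        haveI : Nontrivial N := (nontrivial_iff_ne_bot N).2 hN1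
        have h2 : commutator N < ⊤ := Group.IsSolvable.commutator_lt_top_of_nontrivial N
        refine h2.ne (map_injective N.subtype_injective ?_)
        rw [_root_.commutator_def, map_commutator, ← MonoidHom.range_eq_map, range_subtype, h1]
    -- and a `q`-group
    obtain ⟨q, hqp, hqdvd⟩ := Nat.exists_prime_and_dvd (n := Nat.card N) (by
      rw [ne_eq, Subgroup.card_eq_one]; exact hN1)
    haveI := Fact.mk hqp
    obtain ⟨P⟩ : Nonempty (Sylow q N) := inferInstance
    haveI : IsMulCommutative N := ⟨⟨fun x y => Subtype.ext (hab x x.2 y y.2)⟩⟩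
    letI : CommGroup N :=
      { (inferInstance : Group N) with mul_comm := fun x y => Subtype.ext (hab x x.2 y y.2) }
    haveI hPn : (P : Subgroup N).Normal := inferInstance
    haveI := P.characteristic_of_normal hPn
    have hNq : IsPGroup q N := by
      set M := (P : Subgroup N).map N.subtype
      have hMi : IsInvariant A M := by
        letI := subAction N hNi
        rintro a _ ⟨x, hx, rfl⟩
        exact ⟨a • x, IsInvariant.of_characteristic (A := A) (P : Subgroup N) a x hx, rfl⟩
      have hMne : M ≠ ⊥ := by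
        intro h
        rw [map_eq_bot_iff_of_injective _ N.subtype_injective] at h
        have h2 := P.not_dvd_index
        rw [h, index_bot] at h2
        exact h2 hqdvd
      have h := hmin M inferInstance hMi (map_subtype_le _) hMne
      exact (P.2.map N.subtype).to_le h.symm.le
    by_cases hNc : N ≤ center H
    · exact mem_of_central (hq q hqp) hcop hD hb hNi hN1 hNq hNc hmin hcfix
    · exact mem_of_noncentral hA hp (hq q hqp) hcop hD hb hNi hN1 hNq hab hNc hmin hcfix

theorem main {H : Type u} [Group H] [Finite H] [Group.IsSolvable H] {p : ℕ} [Fact p.Prime] (hp : p ≠ 2)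
    (hcop : (Nat.card H).Coprime p) (x : MulAut H) (hx : orderOf x = p) :
    closure {c : H | ∃ h : H, ∃ i : ℕ, c = h⁻¹ * (x ^ i) h} ⊓ (x : H →* H).eqLocus (MonoidHom.id H) =
      ⨆ h : H, closure {c : H | ∃ i : ℕ, c = h⁻¹ * (x ^ i) h} ⊓ (x : H →* H).eqLocus (MonoidHom.id H) := by
  classical
  haveI : Finite (MulAut H) := Finite.of_injective (fun e : MulAut H => (e : H → H)) DFunLike.coe_injective
  set A := zpowers x
  have hA : Nat.card A = p := by rw [Nat.card_zpowers, hx]
  have hact : ∀ (a : A) (h : H), a • h = (a : MulAut H) h := fun a h => rfl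
  have hpow : ∀ a : A, ∃ i : ℕ, x ^ i = (a : MulAut H) := fun a => mem_powers_iff_mem_zpowers.2 a.2
  have hfix : ∀ c : H, c ∈ (x : H →* H).eqLocus (MonoidHom.id H) ↔ ∀ a : A, a • c = c := by
    intro c
    constructor
    · intro hc a
      obtain ⟨i, hi⟩ := hpow a
      rw [hact, ← hi]
      have : ∀ j : ℕ, (x ^ j) c = c := by
        intro j
        induction j with
        | zero => rfl
        | succ j ihj => rw [pow_succ, MulAut.mul_apply, show x c = c from hc, ihj]
      exact this i
    · intro hc
      exact hc ⟨x, mem_zpowers x⟩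
  have hgen : ∀ h : H, {c : H | ∃ i : ℕ, c = h⁻¹ * (x ^ i) h} = {c : H | ∃ a : A, c = h⁻¹ * a • h} := by
    intro h
    ext c
    constructor
    · rintro ⟨i, rfl⟩
      exact ⟨⟨x ^ i, pow_mem (mem_zpowers x) i⟩, rfl⟩
    · rintro ⟨a, rfl⟩
      obtain ⟨i, hi⟩ := hpow a
      exact ⟨i, by rw [hact, hi]⟩
  refine le_antisymm ?_ (iSup_le fun h => inf_le_inf_right _ (closure_mono fun c ⟨i, hi⟩ => ⟨h, i, hi⟩))
  intro c hc
  have hcA : c ∈ actCommutator H A := by
    have h1 : closure {c : H | ∃ h : H, ∃ i : ℕ, c = h⁻¹ * (x ^ i) h} ≤ actCommutator H A := by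
      rw [closure_le]
      rintro _ ⟨h, i, rfl⟩
      exact subset_closure ⟨⟨x ^ i, pow_mem (mem_zpowers x) i⟩, h, rfl⟩
    exact h1 hc.1
  have h2 := main_aux hA hp (Nat.card H) H rfl (hA.symm ▸ hcop.symm) inferInstance c hcA ((hfix c).1 hc.2)
  have h3 : fixGen H A ≤
      ⨆ h : H, closure {c : H | ∃ i : ℕ, c = h⁻¹ * (x ^ i) h} ⊓ (x : H →* H).eqLocus (MonoidHom.id H) :=
    iSup_le fun h y hy => mem_iSup_of_mem h ⟨by rw [hgen h]; exact hy.1, (hfix y).2 hy.2⟩
  exact h3 h2

end CfsgLib.CommFixed
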