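import Cfsg.Agent.CommFixed.Basic
import Cfsg.Agent.FGSB.QuaternionEight

/-!
The `q`-group case: the last non-central terms of the lower central series pair into the
generated fixed points.
-/

set_option autoImplicit false
set_option linter.style.haveILetI false

namespace CfsgLib.CommFixed

open Subgroup CfsgLib.Coprime
open scoped commutatorElement

universe u v

variable {H : Type u} [Group H] [Finite H] {A : Type v} [Group A] [Finite A] [Group.IsSolvable A]
  [MulDistribMulAction A H]

/-- The inductive hypothesis. -/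
def Below (H : Type u) (A : Type v) [Group A] : Prop :=
  ∀ (K : Type u) [Group K] [Finite K] [MulDistribMulAction A K],
    Nat.card K < Nat.card H → (Nat.card A).Coprime (Nat.card K) → Group.IsSolvable K → Good K A

theorem Below.sub (hb : Below H A) (hcop : (Nat.card A).Coprime (Nat.card H))
    [Group.IsSolvable H] {V : Subgroup H} (hV : IsInvariant A V) (hne : V ≠ ⊤) {c : H}
    (hc : c ∈ ds A V) (hfix : ∀ a : A, a • c = c) : c ∈ fixGen H A := by
  letI := subAction V hV
  refine mem_fixGen_of_sub hV (hb V ?_ (hcop.coprime_dvd_right (card_subgroup_dvd_card _)) inferInstance)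
    hc hfix
  exact lt_of_le_of_ne (Nat.le_of_dvd Nat.card_pos (card_subgroup_dvd_card _))
    fun h => hne (eq_top_of_card_eq _ h)

theorem Below.quot (hb : Below H A) (hcop : (Nat.card A).Coprime (Nat.card H))
    [Group.IsSolvable H] (hD : actCommutator H A = ⊤) {N : Subgroup H} [N.Normal]
    (hN : IsInvariant A N) (hne : N ≠ ⊥)
    (hNW : ∀ n ∈ N, (∀ a : A, a • n = n) → n ∈ fixGen H A) {c : H} (hc : ∀ a : A, a • c = c) :
    c ∈ fixGen H A := by
  letI := quotAction N hN
  refine mem_of_quot hcop hD hN (hb (H ⧸ N) ?_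
    (hcop.coprime_dvd_right (card_quotient_dvd_card _)) inferInstance) hNW hc
  rw [← index_eq_card]
  have h1 := N.card_mul_index
  have h2 : 1 < Nat.card N := by
    haveI := (nontrivial_iff_ne_bot N).2 hne
    exact Finite.one_lt_card
  have h3 : 0 < N.index := Nat.pos_of_ne_zero N.index_ne_zero_of_finite
  nlinarith

/-- A central commutator is bi-multiplicative. -/
theorem comm_mul_right {G : Type*} [Group G] (u x y : G) (h : ⁅u, y⁆ ∈ center G) :
    ⁅u, x * y⁆ = ⁅u, x⁆ * ⁅u, y⁆ := by
  have e1 : ⁅u, x * y⁆ = ⁅u, x⁆ * (x * ⁅u, y⁆ * x⁻¹) := by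
    simp only [commutatorElement_def]; group
  rw [e1, mem_center_iff.1 h x, mul_inv_cancel_right]

theorem comm_mul_left {G : Type*} [Group G] (x y w : G) (h : ⁅y, w⁆ ∈ center G) :
    ⁅x * y, w⁆ = ⁅x, w⁆ * ⁅y, w⁆ := by
  have e1 : ⁅x * y, w⁆ = (x * ⁅y, w⁆ * x⁻¹) * ⁅x, w⁆ := by
    simp only [commutatorElement_def]; group
  rw [e1, mem_center_iff.1 h x, mul_inv_cancel_right, ← mem_center_iff.1 h]

theorem comm_inv_right {G : Type*} [Group G] (u x : G) (h : ∀ z : G, ⁅u, z⁆ ∈ center G) :
    ⁅u, x⁻¹⁆ = ⁅u, x⁆⁻¹ := by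
  rw [eq_inv_iff_mul_eq_one, ← comm_mul_right u x⁻¹ x (h x), inv_mul_cancel, commutatorElement_one_right]

theorem mem_of_pGroup {q : ℕ} [Fact q.Prime] (hH : IsPGroup q H)
    (hcop : (Nat.card A).Coprime (Nat.card H)) (hodd : Odd (Nat.card A)) [Group.IsSolvable H]
    (hD : actCommutator H A = ⊤) (hb : Below H A) {c : H} (hc : ∀ a : A, a • c = c) :
    c ∈ fixGen H A := by
  classical
  haveI := hH.isNilpotent
  have hsmulc : ∀ (a : A) (x y : H), a • ⁅x, y⁆ = ⁅a • x, a • y⁆ := fun a x y => by
    simp only [commutatorElement_def, smul_mul', smul_inv']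
  by_cases hab : commutator H = ⊥
  · have h1 := fixed_mem_commutator hcop hD hc
    rw [hab, mem_bot] at h1
    rw [h1]; exact one_mem _
  -- a normal subgroup fixed by `A` may be assumed
  have hreduce : ∀ L : Subgroup H, L.Normal → IsInvariant A L → L ≤ center H →
      (∀ a : A, ∀ l ∈ L, a • l = l) ∨ c ∈ fixGen H A := by
    intro L hLn hL hLc
    by_cases hds : ds A L = ⊥
    · left
      intro a l hl
      have h1 := mem_ds a hl
      rw [hds, mem_bot] at h1
      exact (inv_mul_eq_one.1 h1).symm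
    · right
      have hle : ds A L ≤ center H := (ds_le hL).trans hLc
      haveI : (ds A L).Normal := ⟨fun x hx g => by
        rw [mem_center_iff.1 (hle hx) g, mul_inv_cancel_right]; exact hx⟩
      refine hb.quot hcop hD (isInvariant_ds hL) hds (fun n hn hfix => ?_) hc
      rw [eq_one_of_mem_ds hcop hL (fun x hx y _ => (mem_center_iff.1 (hLc hx) y).symm) hn hfix]
      exact one_mem _
  set W := fixGen H A with hW
  have hfixC : commutator H ≤ W → c ∈ W := fun h => h (fixed_mem_commutator hcop hD hc)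
  have hgen : ∀ K : Subgroup H, (∀ (a : A) (g : H), g⁻¹ * a • g ∈ K) → K = ⊤ := fun K h =>
    top_unique (hD ▸ actCommutator_le_iff.2 h)
  -- each element lies in its own `[v, A]` modulo the derived subgroup
  have hown : ∀ v : H, ∃ k ∈ cm A v, k⁻¹ * v ∈ commutator H := by
    intro v
    set K := cm A v ⊔ commutator H with hK
    have hKi : IsInvariant A K := (isInvariant_cm v).sup (IsInvariant.of_characteristic _)
    obtain ⟨d, hd, hd'⟩ := exists_fixed_mem_coset_of_isSolvable K hKi
      (hcop.coprime_dvd_right (card_subgroup_dvd_card _)) v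
      (fun a => mem_sup_left (mem_cm v a))
    have hd2 : d ∈ K := mem_sup_right (fixed_mem_commutator hcop hD hd)
    have hv : v ∈ K := by
      have := K.mul_mem hd2 (K.inv_mem hd')
      simpa using this
    have hv' : v ∈ ((cm A v ⊔ commutator H : Subgroup H) : Set H) := hv
    rw [Subgroup.mul_normal] at hv'
    obtain ⟨k, hk, z, hz, hkz⟩ := hv'
    refine ⟨k, hk, ?_⟩
    rw [← hkz]
    simpa using hz
  by_cases hcl : commutator H ≤ center H
  · -- class two
    rcases hreduce (commutator H) inferInstance (IsInvariant.of_characteristic _) hcl with hfL | h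
    swap
    · exact h
    have hcen : ∀ x y : H, ⁅x, y⁆ ∈ center H := fun x y =>
      hcl (commutator_mem_commutator (mem_top x) (mem_top y))
    have hinv : ∀ (a : A) (x y : H), ⁅a • x, a • y⁆ = ⁅x, y⁆ := fun a x y => by
      rw [← hsmulc, hfL a _ (commutator_mem_commutator (mem_top x) (mem_top y))]
    -- an element and its translates
    have hsame : ∀ (a : A) (v : H), ⁅v, a • v⁆ ∈ W := by
      intro a v
      obtain ⟨k, hk, hz⟩ := hown v
      have hvk : v = k * (k⁻¹ * v) := (mul_inv_cancel_left k v).symm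
      set z := k⁻¹ * v
      have hzc : z ∈ center H := hcl hz
      have hz' : a • z = z := hfL a z hz
      have e : ⁅v, a • v⁆ = ⁅k, a • k⁆ := by
        rw [hvk, smul_mul', hz', comm_mul_right _ _ _ (hcen _ _), comm_mul_left _ _ _ (hcen _ _)]
        have h1 : ∀ y : H, ⁅z, y⁆ = 1 := fun y =>
          commutatorElement_eq_one_iff_commute.2 (mem_center_iff.1 hzc y).symm
        have h2 : ∀ y : H, ⁅y, z⁆ = 1 := fun y =>
          commutatorElement_eq_one_iff_commute.2 (mem_center_iff.1 hzc y)
        simp [h1, h2]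
      rw [e]
      refine mem_fixGen (h := v) ?_ fun b =>
        hfL b _ (commutator_mem_commutator (mem_top k) (mem_top _))
      have hak := isInvariant_cm v a k hk
      simp only [commutatorElement_def]
      exact mul_mem (mul_mem (mul_mem hk hak) (inv_mem hk)) (inv_mem hak)
    -- polarisation
    have hpol : ∀ (a : A) (u w : H), ⁅u, a • w⁆ * ⁅w, a • u⁆ ∈ W := by
      intro a u w
      have h1 := hsame a (u * w)
      rw [smul_mul', comm_mul_left _ _ _ (hcen _ _), comm_mul_right _ _ _ (hcen _ _),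
        comm_mul_right _ _ _ (hcen _ _)] at h1
      have e : ⁅u, a • w⁆ * ⁅w, a • u⁆ = ⁅u, a • u⁆⁻¹ *
          (⁅u, a • u⁆ * ⁅u, a • w⁆ * (⁅w, a • u⁆ * ⁅w, a • w⁆)) * ⁅w, a • w⁆⁻¹ := by group
      rw [e]
      exact mul_mem (mul_mem (inv_mem (hsame a u)) h1) (inv_mem (hsame a w))
    have hsq : ∀ (a : A) (u w : H), ⁅u, w⁻¹ * (a * a) • w⁆ ∈ W := by
      intro a u w
      have h1 := hpol a u (a • w)
      rw [hinv, ← commutatorElement_inv u w, ← mul_smul] at h1
      rw [comm_mul_right _ _ _ (hcen _ _), comm_inv_right _ _ (hcen u), ← mem_center_iff.1 (inv_mem (hcen u w))]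
      exact h1
    refine hfixC ?_
    rw [commutator_def, commutator_le]
    intro u _ w _
    let T : Subgroup H :=
      { carrier := {w | ⁅u, w⁆ ∈ W}
        one_mem' := by show ⁅u, (1 : H)⁆ ∈ W; rw [commutatorElement_one_right]; exact one_mem _
        mul_mem' := fun {x y} hx hy => by
          show ⁅u, x * y⁆ ∈ W
          rw [comm_mul_right _ _ _ (hcen _ _)]; exact mul_mem hx hy
        inv_mem' := fun {x} hx => by
          show ⁅u, x⁻¹⁆ ∈ W
          rw [comm_inv_right _ _ (hcen u)]; exact inv_mem hx }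
    have hT : T = ⊤ := hgen T fun b g => by
      obtain ⟨k, hk⟩ := hodd
      have hb : b ^ (2 * k + 1) = 1 := hk ▸ pow_card_eq_one'
      have e : b = b ^ (k + 1) * b ^ (k + 1) := by
        rw [← pow_add, show k + 1 + (k + 1) = (2 * k + 1) + 1 by ring, pow_succ, hb, one_mul]
      show ⁅u, g⁻¹ * b • g⁆ ∈ W
      rw [e]
      exact hsq _ u g
    exact (hT ▸ mem_top w : w ∈ T)
  -- higher class
  let γ := (⊤ : Subgroup H).lowerCentralSeries
  obtain ⟨N0, hN0⟩ := Subgroup.nilpotent_iff_lowerCentralSeries.1 (inferInstance : Group.IsNilpotent H)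
  have hex : ∃ n, γ n ≤ center H := ⟨N0, by show (⊤ : Subgroup H).lowerCentralSeries N0 ≤ _; rw [hN0]; exact bot_le⟩
  obtain ⟨m, hm, hm'⟩ : ∃ m, γ (m + 1) ≤ center H ∧ ¬ γ m ≤ center H ∧ 1 ≤ m := by
    classical
    have h0 : Nat.find hex ≠ 0 := by
      intro h0
      have h := Nat.find_spec hex
      rw [h0] at h
      exact hcl (le_top.trans h)
    obtain ⟨m, hm⟩ := Nat.exists_eq_succ_of_ne_zero h0
    refine ⟨m, by have h := Nat.find_spec hex; rwa [hm] at h, Nat.find_min hex (by omega), ?_⟩
    by_contra hm0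
    have h := Nat.find_spec hex
    rw [hm, show m = 0 by omega] at h
    exact hcl (by rw [← top_lowerCentralSeries_one]; exact h)
  obtain ⟨hmc, hm1⟩ := hm'
  set U := γ m with hU
  set L := γ (m + 1) with hL
  have hUn : U.Normal := by show ((⊤ : Subgroup H).lowerCentralSeries m).Normal; infer_instance
  have hUc : U.Characteristic := by show ((⊤ : Subgroup H).lowerCentralSeries m).Characteristic; infer_instance
  have hLc : L.Characteristic := by show ((⊤ : Subgroup H).lowerCentralSeries (m + 1)).Characteristic; infer_instance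
  have hUi : IsInvariant A U := IsInvariant.of_characteristic _
  have hLi : IsInvariant A L := IsInvariant.of_characteristic _
  have hUH : U ≤ commutator H := by
    rw [← top_lowerCentralSeries_one]
    exact Subgroup.lowerCentralSeries_antitone (⊤ : Subgroup H) hm1
  have hUL : ∀ u ∈ U, ∀ x : H, ⁅u, x⁆ ∈ L := fun u hu x =>
    (commutator_le.1 (le_of_eq ((⊤ : Subgroup H).lowerCentralSeries_succ m).symm)) u hu x (mem_top x)
  haveI hLn : L.Normal := by show ((⊤ : Subgroup H).lowerCentralSeries (m + 1)).Normal; infer_instance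
  have hL1 : L ≠ ⊥ := by
    intro h
    refine hmc fun u hu => mem_center_iff.2 fun x => ?_
    have h1 := hUL u hu x
    rw [h, mem_bot, commutatorElement_eq_one_iff_commute] at h1
    exact h1.symm
  rcases hreduce L hLn hLi hm with hfL | h
  swap
  · exact h
  by_cases hh : ∀ h : H, U ⊔ cm A h ≠ ⊤
  swap
  · push Not at hh
    obtain ⟨h, hh⟩ := hh
    have h2 : cm A h = ⊤ := frattini_nongenerating (top_unique
      (hh.symm.le.trans (sup_le ((hUH.trans (CfsgLib.QuatEight.le_frattini_of_pGroup hH)).trans le_sup_right) le_sup_left)))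
    exact mem_fixGen (h := h) (h2 ▸ mem_top c) hc
  suffices hLW : L ≤ W by exact hb.quot hcop hD hLi hL1 (fun n hn _ => hLW hn) hc
  show ⁅U, (⊤ : Subgroup H)⁆ ≤ W
  rw [commutator_le]
  intro u hu x _
  have hcen : ∀ y : H, ⁅u, y⁆ ∈ center H := fun y => hm (hUL u hu y)
  -- `U` commutes with the derived subgroup
  have hU' : ∀ z ∈ commutator H, ∀ v ∈ U, ⁅v, z⁆ = 1 := by
    intro z hz v hv
    let T : Subgroup H :=
      { carrier := {z | ⁅v, z⁆ = 1}
        one_mem' := commutatorElement_one_right v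
        mul_mem' := fun {x y} hx hy => by
          show ⁅v, x * y⁆ = 1
          rw [comm_mul_right _ _ _ (hm (hUL v hv y)), hx, hy, one_mul]
        inv_mem' := fun {x} hx => by
          show ⁅v, x⁻¹⁆ = 1
          rw [comm_inv_right _ _ (fun y => hm (hUL v hv y)), hx, inv_one] }
    refine (commutator_def H ▸ commutator_le.2 (fun p _ r _ => ?_) : commutator H ≤ T) hz
    show ⁅v, ⁅p, r⁆⁆ = 1
    have hcen' : ∀ y : H, ⁅v, y⁆ ∈ center H := fun y => hm (hUL v hv y)
    rw [commutatorElement_def p r, comm_mul_right _ _ _ (hcen' _), comm_mul_right _ _ _ (hcen' _),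
      comm_mul_right _ _ _ (hcen' _), comm_inv_right _ _ hcen', comm_inv_right _ _ hcen',
      ← mem_center_iff.1 (hcen' p) ⁅v, r⁆]
    group
  let T : Subgroup H :=
    { carrier := {w | ⁅u, w⁆ ∈ W}
      one_mem' := by show ⁅u, (1 : H)⁆ ∈ W; rw [commutatorElement_one_right]; exact one_mem _
      mul_mem' := fun {x y} hx hy => by
        show ⁅u, x * y⁆ ∈ W
        rw [comm_mul_right _ _ _ (hcen _)]; exact mul_mem hx hy
      inv_mem' := fun {x} hx => by
        show ⁅u, x⁻¹⁆ ∈ W
        rw [comm_inv_right _ _ hcen]; exact inv_mem hx }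
  have hT : T = ⊤ := hgen T fun b g => by
    show ⁅u, g⁻¹ * b • g⁆ ∈ W
    set S := U ⊔ cm A g with hS
    have hSi : IsInvariant A S := hUi.sup (isInvariant_cm g)
    set k := g⁻¹ * b • g
    obtain ⟨e, he, hef, hd⟩ := exists_fixed_mul hcop hSi (mem_sup_right (mem_cm g b) : k ∈ S)
    have hk : k = e * (e⁻¹ * k) := (mul_inv_cancel_left e k).symm
    set d := e⁻¹ * k
    rw [hk, comm_mul_right _ _ _ (hcen _), hU' e (fixed_mem_commutator hcop hD hef) u hu, one_mul]
    obtain ⟨e', he', hef', hd'⟩ := exists_fixed_mul hcop hUi hu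
    have hu' : u = e' * (e'⁻¹ * u) := (mul_inv_cancel_left e' u).symm
    set d' := e'⁻¹ * u
    have hd'U : d' ∈ U := U.mul_mem (U.inv_mem he') hu
    rw [hu', comm_mul_left _ _ _ (hm (hUL d' hd'U d))]
    have h0 : ∀ y : H, ⁅e', y⁆ = 1 := by
      let T' : Subgroup H :=
        { carrier := {z | ⁅e', z⁆ = 1}
          one_mem' := commutatorElement_one_right e'
          mul_mem' := fun {x y} hx hy => by
            show ⁅e', x * y⁆ = 1
            rw [comm_mul_right _ _ _ (hm (hUL e' he' y)), hx, hy, one_mul]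
          inv_mem' := fun {x} hx => by
            show ⁅e', x⁻¹⁆ = 1
            rw [comm_inv_right _ _ (fun y => hm (hUL e' he' y)), hx, inv_one] }
      have hT' : T' = ⊤ := hgen T' fun a y => by
        show ⁅e', y⁻¹ * a • y⁆ = 1
        rw [comm_mul_right _ _ _ (hm (hUL e' he' _)), comm_inv_right _ _ (fun y => hm (hUL e' he' y))]
        have h1 : ⁅e', a • y⁆ = ⁅e', y⁆ := by
          rw [← hfL a _ (hUL e' he' y), hsmulc, hef' a]
        rw [h1, inv_mul_cancel]
      exact fun y => (hT' ▸ mem_top y : y ∈ T')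
    rw [h0, one_mul]
    refine hb.sub hcop hSi (hh g) ?_ fun a => hfL a _ (hUL d' hd'U d)
    have h1 : d' ∈ ds A S := ds_mono le_sup_left hd'
    simp only [commutatorElement_def]
    exact mul_mem (mul_mem (mul_mem h1 hd) (inv_mem h1)) (inv_mem hd)
  exact (hT ▸ mem_top x : x ∈ T)

end CfsgLib.CommFixed
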